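import Groth.Agent.VarDim.Local
import Groth.Agent.S3401
import Mathlib.RingTheory.Ideal.KrullsHeightTheorem
import Mathlib.AlgebraicGeometry.Morphisms.FinitePresentation

/-!
# Points of small height over every point of an image
-/

set_option autoImplicit false

universe u

namespace Groth.Agent.H9DimImg

open AlgebraicGeometry CategoryTheory TopologicalSpace Groth.Agent.VarDim

theorem exists_height_le_coheight_comap {R T : Type u} [CommRing R] [IsNoetherianRing R]
    [CommRing T] [IsNoetherianRing T]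
    (φ : R →+* T) (P : Ideal T) [P.IsPrime] (hP : P ∈ ((P.comap φ).map φ).minimalPrimes) :
    ∃ Q : PrimeSpectrum T, P.height ≤ Order.coheight (PrimeSpectrum.comap φ Q) := by
  let I := RingHom.ker φ
  let ψ : R ⧸ I →+* T := RingHom.kerLift φ
  letI : Algebra (R ⧸ I) T := ψ.toAlgebra
  let p : Ideal (R ⧸ I) := P.comap ψ
  haveI : P.LiesOver p := ⟨rfl⟩
  have hmap : p.map ψ = (P.comap φ).map φ := by
    have h1 : P.comap φ = p.comap (Ideal.Quotient.mk I) := by
      ext r; rfl
    have h2 : φ = ψ.comp (Ideal.Quotient.mk I) := by ext r; rfl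
    conv_rhs => rw [h1, h2, ← Ideal.map_map]
    rw [Ideal.map_comap_of_surjective _ Ideal.Quotient.mk_surjective]
  have h0 : (P.map (Ideal.Quotient.mk (p.map (algebraMap (R ⧸ I) T)))).height = 0 := by
    have hP' : P ∈ (p.map (algebraMap (R ⧸ I) T)).minimalPrimes := hmap.symm ▸ hP
    haveI : (P.map (Ideal.Quotient.mk (p.map (algebraMap (R ⧸ I) T)))).IsPrime :=
      Ideal.map_isPrime_of_surjective Ideal.Quotient.mk_surjective
        (by rw [Ideal.mk_ker]; exact hP'.1.2)
    rw [Ideal.height_eq_zero_iff]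
    rw [Ideal.minimalPrimes_eq_comap] at hP'
    obtain ⟨Q, hQ, hQP⟩ := hP'
    rw [← hQP, Ideal.map_comap_of_surjective _ Ideal.Quotient.mk_surjective]
    exact hQ
  have hle : P.height ≤ p.height := by
    have := Ideal.height_le_height_add_of_liesOver p P
    rwa [h0, add_zero] at this
  haveI : p.IsPrime := Ideal.IsPrime.comap ψ
  have hord := PrimeSpectrum.height_eq_orderHeight (⟨p, ‹_›⟩ : PrimeSpectrum (R ⧸ I))
  replace hle := hle.trans_eq hord
  obtain ⟨l, hl, hlen⟩ : ∃ l : LTSeries (PrimeSpectrum (R ⧸ I)), l.last.asIdeal = p ∧ P.height ≤ l.length := by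
    obtain ⟨n, hn⟩ := ENat.ne_top_iff_exists.1 (Ideal.height_ne_top_of_isPrime (I := P))
    rw [← hn] at hle
    obtain ⟨l, hl, hlen⟩ := Order.exists_series_of_le_height (⟨p, inferInstance⟩ : PrimeSpectrum (R ⧸ I)) hle
    exact ⟨l, congrArg PrimeSpectrum.asIdeal hl, by rw [← hn, hlen]⟩
  obtain ⟨q, hq, hql⟩ := Ideal.exists_minimalPrimes_le (bot_le : (⊥ : Ideal (R ⧸ I)) ≤ l.head.asIdeal)
  obtain ⟨Q, hQ, hQq⟩ := Ideal.exists_comap_eq_of_mem_minimalPrimes_of_injective
    (f := ψ) (RingHom.kerLift_injective φ) q hq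
  refine ⟨⟨Q, hQ⟩, le_trans hlen ?_⟩
  have hmono : StrictMono (PrimeSpectrum.comap (Ideal.Quotient.mk I)) := fun a b hab =>
    lt_of_le_of_ne (fun x hx => hab.le hx) fun h =>
      hab.ne (PrimeSpectrum.comap_injective_of_surjective _ Ideal.Quotient.mk_surjective h)
  have := Order.length_le_coheight (p := l.map _ hmono) (x := PrimeSpectrum.comap φ ⟨Q, hQ⟩) (by
    rw [LTSeries.head_map]
    intro r hr
    show Ideal.Quotient.mk I r ∈ l.head.asIdeal
    apply hql
    rw [← hQq]
    exact hr)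
  simpa using this

variable {k : Type u} [Field k] {S X : Scheme.{u}} (pX : X ⟶ Spec (CommRingCat.of k))
  [LocallyOfFiniteType pX] [QuasiCompact pX] [IsSeparated pX] (f : S ⟶ X)

/-- The image of `f` has dimension at least the transcendence degree of each of its points. -/
theorem deg_le_dim_range [LocallyOfFiniteType f] [QuasiCompact f] (η : S) :
    ((deg pX (f η) : ℕ∞) : WithBot ℕ∞) ≤ topologicalKrullDim (Set.range f) := by
  haveI : IsLocallyNoetherian X := LocallyOfFiniteType.isLocallyNoetherian pX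
  haveI : CompactSpace X := QuasiCompact.compactSpace_of_compactSpace pX
  haveI : QuasiSeparatedSpace X := inferInstance
  haveI : LocallyOfFinitePresentation f := inferInstance
  have hE : Topology.IsLocallyConstructible (Set.range f) := by
    rw [← Set.image_univ]
    exact f.isLocallyConstructible_image Topology.IsConstructible.univ.isLocallyConstructible
  have hE' : ProCons.IsIndConstructible (Set.range f) := fun x => ⟨Set.univ, isOpen_univ, trivial,
    {Subtype.val ⁻¹' Set.range f}, by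
      rintro T rfl
      exact hE.preimage_of_isOpenEmbedding isOpen_univ.isOpenEmbedding_subtypeVal,
    by simp⟩
  obtain ⟨W, hW, hWs⟩ := mem_nhds_iff.1 ((Groth.Agent.S3401.result X _).1 hE' (f η) ⟨η, rfl⟩) |>
    fun ⟨t, hts, ht, hmem⟩ => (show ∃ W : Set X, IsOpen W ∧ (f η ∈ W ∧ ∀ z ∈ closure {f η}, z ∈ W → z ∈ Set.range f) from by
      obtain ⟨W, hW, rfl⟩ := isOpen_induced_iff.1 ht
      exact ⟨W, hW, hmem, fun z hz hzW => hts (a := ⟨z, hz⟩) hzW⟩)
  let V : X.Opens := ⟨W, hW⟩
  let Z : Set V.toScheme := V.ι ⁻¹' closure {f η}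
  have hZ : IsClosed Z := isClosed_closure.preimage V.ι.continuous
  let g : Z → Set.range f := fun z => ⟨V.ι z.1, hWs.2 _ z.2 z.1.2⟩
  have hg : Topology.IsInducing g := by
    refine Topology.IsInducing.of_comp (by fun_prop) continuous_subtype_val ?_
    exact V.ι.isOpenEmbedding.isInducing.comp Topology.IsInducing.subtypeVal
  refine le_trans ?_ hg.topologicalKrullDim_le
  rw [topologicalKrullDim_set_eq_iSup_deg (V.ι ≫ pX) hZ]
  refine le_iSup_of_le ⟨⟨f η, hWs.1⟩, subset_closure rfl⟩ ?_
  rw [deg_comp pX V.ι]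
  exact le_rfl

/-- Over the image of any point of `S` lies a point whose local ring has dimension at most that of the image. -/
theorem exists_stalk_dim_le {pS : S ⟶ Spec (CommRingCat.of k)} [LocallyOfFiniteType pS] [QuasiCompact pS]
    [IsSeparated pS] (hf : f ≫ pX = pS) (s : S) :
    ∃ (s' : S) (b : ℕ), f s' = f s ∧ ringKrullDim (S.presheaf.stalk s') = b ∧
      (b : WithBot ℕ∞) ≤ topologicalKrullDim (Set.range f) := by
  haveI : LocallyOfFiniteType (f ≫ pX) := hf ▸ inferInstance
  haveI : QuasiCompact (f ≫ pX) := hf ▸ inferInstance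
  haveI : LocallyOfFiniteType f := locallyOfFiniteType_of_comp f pX
  haveI : QuasiCompact f := QuasiCompact.of_comp f pX
  haveI : IsLocallyNoetherian X := LocallyOfFiniteType.isLocallyNoetherian pX
  haveI : IsLocallyNoetherian S := LocallyOfFiniteType.isLocallyNoetherian pS
  obtain ⟨V, hV, hxV, -⟩ := exists_isAffineOpen_mem_and_subset (x := f s) (U := ⊤) trivial
  obtain ⟨W, hW, hsW, hWV⟩ := exists_isAffineOpen_mem_and_subset (x := s) (U := f ⁻¹ᵁ V) hxV
  haveI : IsNoetherianRing Γ(X, V) := IsLocallyNoetherian.component_noetherian ⟨V, hV⟩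
  haveI : IsNoetherianRing Γ(S, W) := IsLocallyNoetherian.component_noetherian ⟨W, hW⟩
  let φ := (f.appLE V W hWV).hom
  have hcomap : ∀ q : PrimeSpectrum Γ(S, W),
      f (hW.fromSpec q) = hV.fromSpec (PrimeSpectrum.comap φ q) := fun q => by
    show f (hW.fromSpec (q : Spec Γ(S, W))) = hV.fromSpec (Spec.map (f.appLE V W hWV) (q : Spec Γ(S, W)))
    rw [← Scheme.Hom.comp_apply, ← Scheme.Hom.comp_apply,
      IsAffineOpen.SpecMap_appLE_fromSpec f hV hW hWV]
  obtain ⟨p₀, hp₀⟩ := exists_fromSpec_eq hW hsW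
  let p := PrimeSpectrum.comap φ p₀
  obtain ⟨P, hP, hPp⟩ := Ideal.exists_minimalPrimes_le
    (Ideal.map_comap_le (f := φ) (K := p₀.asIdeal))
  haveI := hP.1.1
  have hPc : P.comap φ = p.asIdeal :=
    le_antisymm (Ideal.comap_mono hPp) (Ideal.map_le_iff_le_comap.1 hP.1.2)
  obtain ⟨Q, hQ⟩ := exists_height_le_coheight_comap φ P (by rw [hPc]; exact hP)
  refine ⟨hW.fromSpec ⟨P, inferInstance⟩, P.height.toNat, ?_, ?_, ?_⟩
  · rw [hcomap, ← hp₀, hcomap]
    congr 1
    exact PrimeSpectrum.ext hPc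
  · rw [ringKrullDim_stalk_fromSpec hW, ← PrimeSpectrum.height_eq_orderHeight]
    change (P.height : WithBot ℕ∞) = _
    conv_lhs => rw [← ENat.natCast_toNat (Ideal.height_ne_top_of_isPrime (I := P))]
    rfl
  · refine le_trans ?_ (deg_le_dim_range pX f (hW.fromSpec Q))
    rw [hcomap, ← deg_eq_coheight pX hV]
    rw [← ENat.natCast_toNat (Ideal.height_ne_top_of_isPrime (I := P))] at hQ
    exact WithBot.coe_le_coe.2 hQ

end Groth.Agent.H9DimImg
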